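import Mathlib.CategoryTheory.Abelian.RightDerived
import Mathlib.CategoryTheory.Abelian.Exact
import Mathlib.Algebra.Homology.ShortComplex.PreservesHomology

/-!
Right derived functors followed by an exact functor.
-/

set_option autoImplicit false
set_option backward.isDefEq.respectTransparency false
set_option backward.isDefEq.respectTransparency.types false

universe v v' v'' u u' u''

open CategoryTheory CategoryTheory.Limits

namespace Groth.Agent.RDComp

variable {A : Type u} [Category.{v} A] [Abelian A] [HasInjectiveResolutions A]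
  {B : Type u'} [Category.{v'} B] [Abelian B] {C : Type u''} [Category.{v''} C] [Abelian C]
  (F : A ⥤ B) [F.Additive] (Φ : B ⥤ C) [Φ.Additive] [Φ.PreservesHomology]

/-- `Rⁿ(Φ ∘ F) = Φ ∘ RⁿF` for exact `Φ`. -/
noncomputable def rightDerivedPostIso (n : ℕ) : (F ⋙ Φ).rightDerived n ≅ F.rightDerived n ⋙ Φ :=
  NatIso.ofComponents
    (fun X => (injectiveResolution X).isoRightDerivedObj (F ⋙ Φ) n ≪≫
      (((F.mapHomologicalComplex (ComplexShape.up ℕ)).obj (injectiveResolution X).cocomplex).sc n).mapHomologyIso Φ ≪≫
      Φ.mapIso ((injectiveResolution X).isoRightDerivedObj F n).symm)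
    (fun {X Y} f => by
      let R := injectiveResolution X
      let R' := injectiveResolution Y
      let φ := InjectiveResolution.desc f R' R
      have hφ : R.ι.f 0 ≫ φ.f 0 = f ≫ R'.ι.f 0 := InjectiveResolution.desc_commutes_zero f R' R
      have h1 := InjectiveResolution.isoRightDerivedObj_hom_naturality f R R' φ hφ (F ⋙ Φ) n
      have h2 := InjectiveResolution.isoRightDerivedObj_inv_naturality f R R' φ hφ F n
      have h3 := ShortComplex.mapHomologyIso_hom_naturality
        ((HomologicalComplex.shortComplexFunctor B (ComplexShape.up ℕ) n).map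
          ((F.mapHomologicalComplex (ComplexShape.up ℕ)).map φ)) Φ
      simp only [Iso.trans_hom, Functor.mapIso_hom, Iso.symm_hom, Functor.comp_map]
      refine (Category.assoc _ _ _).symm.trans ((congrArg (· ≫ _) h1).trans ?_)
      refine (Category.assoc _ _ _).trans (Eq.trans ?_ (Category.assoc _ _ _).symm)
      refine congrArg (_ ≫ ·) ?_
      refine (Category.assoc _ _ _).symm.trans ((congrArg (· ≫ _) h3).trans ?_)
      refine (Category.assoc _ _ _).trans (Eq.trans ?_ (Category.assoc _ _ _).symm)
      refine congrArg (_ ≫ ·) ?_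
      exact (Φ.map_comp _ _).symm.trans ((congrArg Φ.map h2.symm).trans (Φ.map_comp _ _)))

end Groth.Agent.RDComp
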