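import Groth.Agent.Lib.RFPlus.DerivedZero
import Groth.Agent.Lib.RFPlus.Adapted

/-!
Right derived functors of a composite with an exact functor sending injectives to acyclic objects,
naturally in the object.
-/

set_option autoImplicit false
set_option backward.isDefEq.respectTransparency false
set_option backward.isDefEq.respectTransparency.types false

universe w w' v v' v'' u u' u''

open CategoryTheory CategoryTheory.Limits ZeroObject

namespace Groth.Agent.RDComp

open Groth.Agent.RFPlus

variable {A : Type u} [Category.{v} A] [Abelian A] [EnoughInjectives A]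
  {B : Type u'} [Category.{v'} B] [Abelian B] [EnoughInjectives B]
  {C : Type u''} [Category.{v''} C] [Abelian C]
  (G : A ⥤ B) [G.Additive] [G.PreservesHomology] (H : B ⥤ C) [H.Additive] [PreservesFiniteLimits H]

omit [EnoughInjectives B] in
/-- The image of an injective resolution, as a bounded below complex. -/
noncomputable def imgPlus {X : A} (R : InjectiveResolution X) : CochainComplex.Plus B :=
  ⟨(G.mapHomologicalComplex (ComplexShape.up ℤ)).obj R.cochainComplex, 0,
    (inferInstance : CochainComplex.IsStrictlyGE _ 0)⟩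

omit [EnoughInjectives B] in
/-- The augmentation of `imgPlus`. -/
noncomputable def imgAug {X : A} (R : InjectiveResolution X) : sing (G.obj X) ⟶ imgPlus G R :=
  ObjectProperty.homMk ((HomologicalComplex.singleMapHomologicalComplex G (ComplexShape.up ℤ) 0).inv.app X ≫
    (G.mapHomologicalComplex (ComplexShape.up ℤ)).map R.ι')

omit [EnoughInjectives B] in
theorem quasiIso_imgAug {X : A} (R : InjectiveResolution X) : QuasiIso (imgAug G R).hom := by
  change QuasiIso ((HomologicalComplex.singleMapHomologicalComplex G (ComplexShape.up ℤ) 0).inv.app X ≫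
    (G.mapHomologicalComplex (ComplexShape.up ℤ)).map R.ι')
  exact (quasiIso_comp_isIso _ _ inferInstance).1.2 inferInstance

variable [HasDerivedCategory.{w} B] [HasDerivedCategory.{w'} C]

omit [G.PreservesHomology] in
theorem isIso_θ_imgPlus (hG : ∀ I : A, Injective I → IsAcyclicObj H (G.obj I)) {X : A}
    (R : InjectiveResolution X) (i : ℤ) : IsIso ((θ H i).app (imgPlus G R)) := by
  let K : CochainComplex B ℤ := (G.mapHomologicalComplex (ComplexShape.up ℤ)).obj R.cochainComplex
  haveI : K.IsStrictlyGE ((-1) + 1) :=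
    (inferInstance : CochainComplex.IsStrictlyGE ((G.mapHomologicalComplex (ComplexShape.up ℤ)).obj R.cochainComplex) 0)
  obtain ⟨I, j, hI, hinj, -, hq⟩ :=
    Groth.Agent.ClassRes.exists_resolution_mono (I := fun X : B => Injective X)
      ⟨0, isZero_zero B, inferInstance⟩
      (fun X => ⟨Injective.under X, Injective.ι X, inferInstance, inferInstance⟩) K ((-1) + 1)
  haveI : CochainComplex.IsStrictlyGE I 0 := hI
  haveI : I.IsStrictlyGE (-1) := CochainComplex.isStrictlyGE_of_ge I (-1) 0 (by omega)
  let jp : imgPlus G R ⟶ (⟨I, 0, hI⟩ : CochainComplex.Plus B) := ObjectProperty.homMk j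
  haveI : QuasiIso jp.hom := hq
  haveI : ∀ n, Injective ((⟨I, 0, hI⟩ : CochainComplex.Plus B).obj.X n) := hinj
  have hqi : QuasiIso ((H.mapHomologicalComplex (ComplexShape.up ℤ)).map jp.hom) :=
    quasiIso_map_of_acyclic_terms H (K := K) (L := I) j (-1)
      (fun m => hG _ (inferInstanceAs (Injective (R.cochainComplex.X m))))
      (fun m => haveI := hinj m; isAcyclicObj_injective H (I.X m))
  haveI := (isIso_unit_iff H jp).2 hqi
  rw [isIso_θ_app_iff]
  infer_instance

/-- The component of `rightDerivedAcyclicIso`. -/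
noncomputable def acyclicComponent (hG : ∀ I : A, Injective I → IsAcyclicObj H (G.obj I)) (X : A) (n : ℕ) :
    ((G ⋙ H).rightDerived n).obj X ≅ (H.rightDerived n).obj (G.obj X) :=
  haveI : IsIso ((θ H (n : ℤ)).app (imgPlus G (injectiveResolution X))) :=
    isIso_θ_imgPlus G H hG (injectiveResolution X) (n : ℤ)
  haveI := quasiIso_imgAug G (injectiveResolution X)
  haveI := isIso_HR_map H (n : ℤ) (imgAug G (injectiveResolution X))
  (homologyMapResolutionIso (G ⋙ H) (injectiveResolution X) n).symm ≪≫
    asIso ((θ H (n : ℤ)).app (imgPlus G (injectiveResolution X))) ≪≫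
    (asIso ((HR H (n : ℤ)).map (imgAug G (injectiveResolution X)))).symm ≪≫
    rightDerivedIso H (G.obj X) n

theorem acyclicComponent_naturality (hG : ∀ I : A, Injective I → IsAcyclicObj H (G.obj I)) {X Y : A}
    (f : X ⟶ Y) (n : ℕ) :
    ((G ⋙ H).rightDerived n).map f ≫ (acyclicComponent G H hG Y n).hom =
      (acyclicComponent G H hG X n).hom ≫ (H.rightDerived n).map (G.map f) := by
  let R := injectiveResolution X
  let R' := injectiveResolution Y
  let φ : R.Hom R' f :=
    { hom := InjectiveResolution.desc f R' R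
      ι_f_zero_comp_hom_f_zero := by simpa using InjectiveResolution.desc_commutes_zero f R' R }
  let ψ : imgPlus G R ⟶ imgPlus G R' :=
    ObjectProperty.homMk ((G.mapHomologicalComplex (ComplexShape.up ℤ)).map φ.hom')
  haveI := isIso_θ_imgPlus G H hG R (n : ℤ)
  haveI := isIso_θ_imgPlus G H hG R' (n : ℤ)
  haveI := quasiIso_imgAug G R
  haveI := quasiIso_imgAug G R'
  haveI := isIso_HR_map H (n : ℤ) (imgAug G R)
  haveI := isIso_HR_map H (n : ℤ) (imgAug G R')
  have hsq : imgAug G R ≫ ψ = singMap (G.map f) ≫ imgAug G R' := by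
    refine ObjectProperty.hom_ext _ ?_
    change ((HomologicalComplex.singleMapHomologicalComplex G (ComplexShape.up ℤ) 0).inv.app X ≫
        (G.mapHomologicalComplex (ComplexShape.up ℤ)).map R.ι') ≫
          (G.mapHomologicalComplex (ComplexShape.up ℤ)).map φ.hom' =
      (HomologicalComplex.single B (ComplexShape.up ℤ) 0).map (G.map f) ≫
        (HomologicalComplex.singleMapHomologicalComplex G (ComplexShape.up ℤ) 0).inv.app Y ≫
          (G.mapHomologicalComplex (ComplexShape.up ℤ)).map R'.ι'
    rw [Category.assoc, ← Functor.map_comp]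
    erw [φ.ι'_comp_hom']
    rw [Functor.map_comp]
    exact ((reassoc_of% (HomologicalComplex.singleMapHomologicalComplex G (ComplexShape.up ℤ) 0).inv.naturality f)
      ((G.mapHomologicalComplex (ComplexShape.up ℤ)).map R'.ι')).symm
  have h1 := homologyMapResolutionIso_naturality (G ⋙ H) f R R' φ n
  have h1' : ((G ⋙ H).rightDerived n).map f ≫ (homologyMapResolutionIso (G ⋙ H) R' n).inv =
      (homologyMapResolutionIso (G ⋙ H) R n).inv ≫ HomologicalComplex.homologyMap
        ((H.mapHomologicalComplex (ComplexShape.up ℤ)).map ψ.hom) (n : ℤ) :=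
    (Iso.eq_inv_comp _).2 ((Category.assoc _ _ _).symm.trans ((Iso.comp_inv_eq _).2 h1.symm))
  have h2 : HomologicalComplex.homologyMap
      ((H.mapHomologicalComplex (ComplexShape.up ℤ)).map ψ.hom) (n : ℤ) ≫ (θ H (n : ℤ)).app (imgPlus G R') =
      (θ H (n : ℤ)).app (imgPlus G R) ≫ (HR H (n : ℤ)).map ψ :=
    (θ H (n : ℤ)).naturality ψ
  have h3 : (HR H (n : ℤ)).map ψ ≫ inv ((HR H (n : ℤ)).map (imgAug G R')) =
      inv ((HR H (n : ℤ)).map (imgAug G R)) ≫ (HR H (n : ℤ)).map (singMap (G.map f)) := by
    rw [IsIso.eq_inv_comp, ← Category.assoc, IsIso.comp_inv_eq, ← Functor.map_comp, ← Functor.map_comp, hsq]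
  have h4 := rightDerivedIso_naturality H (G.map f) n
  simp only [acyclicComponent, Iso.trans_hom, Iso.symm_hom, asIso_inv, asIso_hom, Category.assoc]
  refine ((Category.assoc _ _ _).symm.trans (congrArg (· ≫ _) h1')).trans ?_
  refine (Category.assoc _ _ _).trans (congrArg (_ ≫ ·) ?_)
  refine ((Category.assoc _ _ _).symm.trans (congrArg (· ≫ _) h2)).trans ?_
  refine (Category.assoc _ _ _).trans (congrArg (_ ≫ ·) ?_)
  refine ((Category.assoc _ _ _).symm.trans (congrArg (· ≫ _) h3)).trans ?_
  exact (Category.assoc _ _ _).trans (congrArg (_ ≫ ·) h4)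

omit [HasDerivedCategory.{w} B] [HasDerivedCategory.{w'} C] in
/-- `Rⁿ(H ∘ G) = RⁿH ∘ G` when the exact functor `G` sends injectives to `H`-acyclic objects. -/
theorem nonempty_rightDerivedAcyclicIso (hG : ∀ I : A, Injective I → IsAcyclicObj H (G.obj I)) (n : ℕ) :
    Nonempty ((G ⋙ H).rightDerived n ≅ G ⋙ H.rightDerived n) := by
  letI := HasDerivedCategory.standard B
  letI := HasDerivedCategory.standard C
  exact ⟨NatIso.ofComponents (fun X => acyclicComponent G H hG X n)
    (fun f => acyclicComponent_naturality G H hG f n)⟩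

end Groth.Agent.RDComp
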