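import Mathlib.CategoryTheory.Abelian.RightDerived
import Mathlib.CategoryTheory.Preadditive.Injective.Preserves
import Mathlib.CategoryTheory.Abelian.Exact
import Mathlib.Algebra.Homology.SingleHomology

/-!
Right derived functors of a composition with an exact functor preserving injectives.
-/

set_option autoImplicit false

universe v v' v'' u u' u''

open CategoryTheory CategoryTheory.Limits

namespace Groth.Agent.RDComp

variable {A : Type u} [Category.{v} A] [Abelian A] {B : Type u'} [Category.{v'} B] [Abelian B]
  {C : Type u''} [Category.{v''} C] [Abelian C]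
  (G : A ⥤ B) [G.Additive] [G.PreservesHomology] [G.PreservesInjectiveObjects]
  (H : B ⥤ C) [H.Additive]

/-- An exact functor preserving injectives maps injective resolutions to injective resolutions. -/
noncomputable def mapRes {X : A} (R : InjectiveResolution X) : InjectiveResolution (G.obj X) where
  cocomplex := (G.mapHomologicalComplex (ComplexShape.up ℕ)).obj R.cocomplex
  injective n := inferInstanceAs (Injective (G.obj (R.cocomplex.X n)))
  ι := (HomologicalComplex.singleMapHomologicalComplex G (ComplexShape.up ℕ) 0).inv.app X ≫
    (G.mapHomologicalComplex (ComplexShape.up ℕ)).map R.ι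

theorem mapRes_ι_f_zero {X : A} (R : InjectiveResolution X) :
    (mapRes G R).ι.f 0 = G.map (R.ι.f 0) := by
  simp [mapRes]
  exact Category.id_comp _

variable [EnoughInjectives A] [EnoughInjectives B]

/-- `Rⁿ(H ∘ G) = RⁿH ∘ G`. -/
noncomputable def rightDerivedCompIso (n : ℕ) :
    (G ⋙ H).rightDerived n ≅ G ⋙ H.rightDerived n :=
  NatIso.ofComponents
    (fun X => (injectiveResolution X).isoRightDerivedObj (G ⋙ H) n ≪≫
      ((mapRes G (injectiveResolution X)).isoRightDerivedObj H n).symm)
    (fun {X Y} f => by
      let R := injectiveResolution X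
      let R' := injectiveResolution Y
      let φ := InjectiveResolution.desc f R' R
      have hφ : R.ι.f 0 ≫ φ.f 0 = f ≫ R'.ι.f 0 := InjectiveResolution.desc_commutes_zero f R' R
      have h1 := InjectiveResolution.isoRightDerivedObj_hom_naturality f R R' φ hφ (G ⋙ H) n
      have h2 := InjectiveResolution.isoRightDerivedObj_inv_naturality (G.map f) (mapRes G R)
        (mapRes G R') ((G.mapHomologicalComplex (ComplexShape.up ℕ)).map φ) (by
          rw [mapRes_ι_f_zero, mapRes_ι_f_zero]
          exact (G.map_comp _ _).symm.trans ((congrArg G.map hφ).trans (G.map_comp _ _))) H n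
      simp only [Iso.trans_hom, Iso.symm_hom]
      refine (Category.assoc _ _ _).symm.trans ((congrArg (· ≫ _) h1).trans ?_)
      refine (Category.assoc _ _ _).trans (Eq.trans ?_ (Category.assoc _ _ _).symm)
      exact congrArg (_ ≫ ·) h2.symm)

end Groth.Agent.RDComp
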